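import Mathlib
import Groth.Agent.Lib.Helper2.DerivedAdj

/-!
# Generalities for filtered K-injective resolutions

* `isKInjective_map_of_adjunction`: right adjoints of exact functors preserve K-injectives.
* `quasiIso_τ₁`: five lemma for morphisms of short exact sequences of cochain complexes.
* `Good`: K-injective with injective terms; closure under cokernels of monos and kernels of
  degreewise split epis.
-/

namespace Groth.Agent.Lib.Helper2.FilInj

open CategoryTheory Limits HomologicalComplex

universe v u v' u'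

section KInjAdj

variable {A : Type u} [Category.{v} A] [Abelian A] {B : Type u'} [Category.{v'} B] [Abelian B]
  {F : A ⥤ B} {G : B ⥤ A} [F.Additive] [G.Additive] (adj : F ⊣ G)
  [PreservesFiniteLimits F] [PreservesFiniteColimits F]

omit [PreservesFiniteLimits F] [PreservesFiniteColimits F] [G.Additive] in
lemma acyclic_map_of_exact [PreservesFiniteLimits F] [PreservesFiniteColimits F]
    (K : CochainComplex A ℤ) (hK : K.Acyclic) :
    ((F.mapHomologicalComplex (ComplexShape.up ℤ)).obj K).Acyclic := by
  intro i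
  have h := hK i
  rw [exactAt_iff] at h ⊢
  exact h.map F

include adj in
lemma isKInjective_map_of_adjunction (L : CochainComplex B ℤ) [L.IsKInjective] :
    CochainComplex.IsKInjective ((G.mapHomologicalComplex (ComplexShape.up ℤ)).obj L) where
  nonempty_homotopy_zero {K} f hK := by
    let adj' := DerivedAdj.mapHomologicalComplexAdj adj (ComplexShape.up ℤ)
    let f' : (F.mapHomologicalComplex _).obj K ⟶ L := (adj'.homEquiv K L).symm f
    have hK' := acyclic_map_of_exact (F := F) K hK
    let h := CochainComplex.IsKInjective.homotopyZero f' hK'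
    have hf : f = adj'.unit.app K ≫ (G.mapHomologicalComplex _).map f' := by
      have := (adj'.homEquiv K L).apply_symm_apply f
      rw [Adjunction.homEquiv_unit] at this
      exact this.symm
    have h2 : Homotopy ((G.mapHomologicalComplex (ComplexShape.up ℤ)).map f')
        ((G.mapHomologicalComplex (ComplexShape.up ℤ)).map 0) := G.mapHomotopy h
    have h3 := h2.compLeft (adj'.unit.app K)
    rw [hf]
    refine ⟨h3.trans (Homotopy.ofEq ?_)⟩
    rw [Functor.map_zero, comp_zero]

end KInjAdj

section Five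

variable {A : Type u} [Category.{v} A] [Abelian A]
  {S₁ S₂ : ShortComplex (CochainComplex A ℤ)} (φ : S₁ ⟶ S₂)
  (hS₁ : S₁.ShortExact) (hS₂ : S₂.ShortExact)

open HomologicalComplex.HomologySequence ComposableArrows

include hS₁ hS₂ in
lemma quasiIso_τ₁ (h₂ : QuasiIso φ.τ₂) (h₃ : QuasiIso φ.τ₃) : QuasiIso φ.τ₁ := by
  rw [quasiIso_iff]
  intro i
  rw [quasiIsoAt_iff_isIso_homologyMap]
  have hij : (ComplexShape.up ℤ).Rel (i - 1) i := by simp
  have m : Mono (homologyMap φ.τ₁ i) := by
    apply Abelian.mono_of_epi_of_mono_of_mono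
      ((δ₀Functor ⋙ δlastFunctor).map (mapComposableArrows₅ φ hS₁ hS₂ (i - 1) i hij))
    · exact (composableArrows₅_exact hS₁ (i - 1) i hij).δ₀.δlast
    · exact (composableArrows₅_exact hS₂ (i - 1) i hij).δ₀.δlast
    · change Epi (homologyMap φ.τ₂ (i - 1)); infer_instance
    · change Mono (homologyMap φ.τ₃ (i - 1)); infer_instance
    · change Mono (homologyMap φ.τ₂ i); infer_instance
  have e : Epi (homologyMap φ.τ₁ i) := by
    apply Abelian.epi_of_epi_of_epi_of_mono
      ((δ₀Functor ⋙ δ₀Functor).map (mapComposableArrows₅ φ hS₁ hS₂ (i - 1) i hij))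
    · exact (composableArrows₅_exact hS₁ (i - 1) i hij).δ₀.δ₀
    · exact (composableArrows₅_exact hS₂ (i - 1) i hij).δ₀.δ₀
    · change Epi (homologyMap φ.τ₃ (i - 1)); infer_instance
    · change Epi (homologyMap φ.τ₂ i); infer_instance
    · change Mono (homologyMap φ.τ₃ i); infer_instance
  exact isIso_of_mono_of_epi _

end Five

section Good

variable {A : Type u} [Category.{v} A] [Abelian A]

open Pretriangulated

/-- K-injective with injective terms. -/
structure Good (X : CochainComplex A ℤ) : Prop where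
  kinj : X.IsKInjective
  inj : ∀ n, Injective (X.X n)

lemma Good.of_iso {X Y : CochainComplex A ℤ} (e : X ≅ Y) (h : Good X) : Good Y :=
  ⟨haveI := h.kinj; CochainComplex.isKInjective_of_iso e,
    fun n => Injective.of_iso ((eval A _ n).mapIso e) (h.inj n)⟩

lemma isKInjective_X₁ (S : ShortComplex (CochainComplex A ℤ))
    (σ : ∀ n, (S.map (eval A _ n)).Splitting) (h₂ : S.X₂.IsKInjective) (h₃ : S.X₃.IsKInjective) :
    S.X₁.IsKInjective := by
  rw [CochainComplex.isKInjective_iff_rightOrthogonal] at h₂ h₃ ⊢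
  have hT : CochainComplex.trianglehOfDegreewiseSplit S σ ∈ distTriang _ :=
    (HomotopyCategory.distinguished_iff_iso_trianglehOfDegreewiseSplit _).2 ⟨S, σ, ⟨Iso.refl _⟩⟩
  exact ObjectProperty.ext_of_isTriangulatedClosed₁ _ _ hT h₂ h₃

lemma isKInjective_X₃ (S : ShortComplex (CochainComplex A ℤ))
    (σ : ∀ n, (S.map (eval A _ n)).Splitting) (h₁ : S.X₁.IsKInjective) (h₂ : S.X₂.IsKInjective) :
    S.X₃.IsKInjective := by
  rw [CochainComplex.isKInjective_iff_rightOrthogonal] at h₁ h₂ ⊢
  have hT : CochainComplex.trianglehOfDegreewiseSplit S σ ∈ distTriang _ :=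
    (HomotopyCategory.distinguished_iff_iso_trianglehOfDegreewiseSplit _).2 ⟨S, σ, ⟨Iso.refl _⟩⟩
  exact ObjectProperty.ext_of_isTriangulatedClosed₃ _ _ hT h₁ h₂

lemma Good.X₁ (S : ShortComplex (CochainComplex A ℤ))
    (σ : ∀ n, (S.map (eval A _ n)).Splitting) (h₂ : Good S.X₂) (h₃ : Good S.X₃) : Good S.X₁ :=
  ⟨isKInjective_X₁ S σ h₂.kinj h₃.kinj, fun n =>
    haveI : Injective (S.map (eval A _ n)).X₂ := h₂.inj n
    Retract.injective { i := (S.map (eval A _ n)).f, r := (σ n).r, retract := (σ n).f_r }⟩

lemma Good.X₃ (S : ShortComplex (CochainComplex A ℤ)) (hS : S.ShortExact)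
    (h₁ : Good S.X₁) (h₂ : Good S.X₂) : Good S.X₃ := by
  have σ : ∀ n, (S.map (eval A _ n)).Splitting := fun n =>
    haveI : Injective (S.map (eval A _ n)).X₁ := h₁.inj n
    (hS.map_of_exact (eval A _ n)).splittingOfInjective
  exact ⟨isKInjective_X₃ S σ h₁.kinj h₂.kinj, fun n =>
    haveI : Injective (S.map (eval A _ n)).X₂ := h₂.inj n
    Retract.injective { i := (σ n).s, r := (S.map (eval A _ n)).g, retract := (σ n).s_g }⟩

end Good

end Groth.Agent.Lib.Helper2.FilInj
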