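import Mathlib
import Groth.Agent.Lib.Helper2.FilInj.Basic

/-!
# Filtered K-injective embeddings: the formal part

Given a complex `J` with a tower of degreewise split epimorphisms `π p : J ⟶ I p` onto "good"
complexes, the filtration `G p := ker (π p)` has all the required goodness properties, and a map
`j : K ⟶ J` which is a quasi-isomorphism and induces quasi-isomorphisms `K / F p ⟶ I p` induces
quasi-isomorphisms on all steps and subquotients.
-/

namespace Groth.Agent.Lib.Helper2.FilInj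

open CategoryTheory Limits HomologicalComplex

universe v u

lemma le_pullback_of_fac {C : Type*} [Category C] [HasPullbacks C] {X Y : C} (f : X ⟶ Y)
    (x : Subobject X) (y : Subobject Y) (g : (x : C) ⟶ (y : C))
    (hg : g ≫ y.arrow = x.arrow ≫ f) : x ≤ (Subobject.pullback f).obj y := by
  refine Subobject.le_of_comm ((Subobject.isPullback f y).lift g x.arrow hg) ?_
  exact (Subobject.isPullback f y).lift_snd _ _ _

section

variable {A : Type u} [Category.{v} A] [Abelian A]

lemma shortExact_cokernelSequence {C : Type*} [Category C] [Abelian C] {X Y : C} (i : X ⟶ Y)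
    [Mono i] : (ShortComplex.cokernelSequence i).ShortExact :=
  ShortComplex.ShortExact.mk' (ShortComplex.cokernelSequence_exact i)
    (show Mono i from inferInstance) inferInstance

lemma shortExact_kernelSequence {C : Type*} [Category C] [Abelian C] {X Y : C} (π : X ⟶ Y)
    [Epi π] : (ShortComplex.kernelSequence π).ShortExact :=
  ShortComplex.ShortExact.mk' (ShortComplex.kernelSequence_exact π)
    inferInstance (show Epi π from inferInstance)

lemma quasiIso_sub {X₁ X₂ Y₁ Y₂ : CochainComplex A ℤ} (i₁ : X₁ ⟶ X₂) [Mono i₁]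
    (i₂ : Y₁ ⟶ Y₂) [Mono i₂] (a : X₁ ⟶ Y₁) (b : X₂ ⟶ Y₂) (c : cokernel i₁ ⟶ cokernel i₂)
    (h₁ : a ≫ i₂ = i₁ ≫ b) (h₂ : cokernel.π i₁ ≫ c = b ≫ cokernel.π i₂)
    (hb : QuasiIso b) (hc : QuasiIso c) : QuasiIso a := by
  let φ : ShortComplex.cokernelSequence i₁ ⟶ ShortComplex.cokernelSequence i₂ :=
    { τ₁ := a, τ₂ := b, τ₃ := c, comm₁₂ := h₁, comm₂₃ := h₂.symm }
  exact quasiIso_τ₁ φ (shortExact_cokernelSequence i₁) (shortExact_cokernelSequence i₂) hb hc

lemma quasiIso_quot {X₁ X₂ Y₁ Y₂ : CochainComplex A ℤ} (i₁ : X₁ ⟶ X₂) [Mono i₁]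
    (i₂ : Y₁ ⟶ Y₂) [Mono i₂] (a : X₁ ⟶ Y₁) (b : X₂ ⟶ Y₂) (c : cokernel i₁ ⟶ cokernel i₂)
    (h₁ : a ≫ i₂ = i₁ ≫ b) (h₂ : cokernel.π i₁ ≫ c = b ≫ cokernel.π i₂)
    (ha : QuasiIso a) (hb : QuasiIso b) : QuasiIso c := by
  let φ : ShortComplex.cokernelSequence i₁ ⟶ ShortComplex.cokernelSequence i₂ :=
    { τ₁ := a, τ₂ := b, τ₃ := c, comm₁₂ := h₁, comm₂₃ := h₂.symm }
  exact HomologySequence.quasiIso_τ₃ φ (shortExact_cokernelSequence i₁)
    (shortExact_cokernelSequence i₂) ha hb

/-- A degreewise split epimorphism of complexes is an epimorphism. -/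
lemma epi_of_degreewise_section {J I : CochainComplex A ℤ} (π : J ⟶ I)
    (hπ : ∀ n, ∃ s : I.X n ⟶ J.X n, s ≫ π.f n = 𝟙 _) : Epi π :=
  epi_of_epi_f _ (fun n => by
    obtain ⟨s, hs⟩ := hπ n
    exact (IsSplitEpi.mk' ⟨s, hs⟩ : IsSplitEpi (π.f n)).epi)

/-- The kernel of a degreewise split epimorphism between good complexes is good. -/
lemma good_kernel {J I : CochainComplex A ℤ} (π : J ⟶ I)
    (hπ : ∀ n, ∃ s : I.X n ⟶ J.X n, s ≫ π.f n = 𝟙 _) (hJ : Good J) (hI : Good I) :
    Good (kernel π) := by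
  haveI := epi_of_degreewise_section π hπ
  have hS := shortExact_kernelSequence π
  have σ : ∀ n, ((ShortComplex.kernelSequence π).map (eval A _ n)).Splitting := fun n =>
    ShortComplex.Splitting.ofExactOfSection _ (hS.map_of_exact (eval A _ n)).exact
      (hπ n).choose (hπ n).choose_spec (hS.map_of_exact (eval A _ n)).mono_f
  exact Good.X₁ (ShortComplex.kernelSequence π) σ hJ hI

/-- For an epimorphism `π`, the map `J / ker π ⟶ I` is a quasi-isomorphism. -/
lemma quasiIso_cokernel_desc {J I : CochainComplex A ℤ} (π : J ⟶ I) [Epi π] :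
    QuasiIso (cokernel.desc (kernelSubobject π).arrow π (kernelSubobject_arrow_comp π)) := by
  let S' : ShortComplex (CochainComplex A ℤ) :=
    ShortComplex.mk (kernelSubobject π).arrow π (kernelSubobject_arrow_comp π)
  let e : S' ≅ ShortComplex.kernelSequence π :=
    ShortComplex.isoMk (kernelSubobjectIso π) (Iso.refl _) (Iso.refl _)
      ((kernelSubobject_arrow π).trans (Category.comp_id _).symm)
      ((Category.id_comp _).trans (Category.comp_id _).symm)
  have hS' : S'.ShortExact := ShortComplex.shortExact_of_iso e.symm (shortExact_kernelSequence π)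
  let φ : ShortComplex.cokernelSequence (kernelSubobject π).arrow ⟶ S' :=
    { τ₁ := 𝟙 _, τ₂ := 𝟙 _
      τ₃ := cokernel.desc (kernelSubobject π).arrow π (kernelSubobject_arrow_comp π)
      comm₁₂ := (Category.id_comp _).trans (Category.comp_id _).symm
      comm₂₃ := (Category.id_comp _).trans (cokernel.π_desc _ _ _).symm }
  exact HomologySequence.quasiIso_τ₃ φ (shortExact_cokernelSequence _) hS'
    (inferInstanceAs (QuasiIso (𝟙 ((kernelSubobject π : CochainComplex A ℤ)))))
    (inferInstanceAs (QuasiIso (𝟙 J)))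

variable {K J : CochainComplex A ℤ} (F : ℤ → Subobject K) (hF : Antitone F) (j : K ⟶ J)
  (I : ℤ → CochainComplex A ℤ) (π : ∀ p, J ⟶ I p)
  (hπ : ∀ p n, ∃ s : (I p).X n ⟶ J.X n, s ≫ (π p).f n = 𝟙 _)
  (t : ∀ p p', p ≤ p' → (I p' ⟶ I p)) (ht : ∀ p p' (h : p ≤ p'), π p' ≫ t p p' h = π p)
  (q : ∀ p, cokernel (F p).arrow ⟶ I p)
  (hq : ∀ p, j ≫ π p = cokernel.π (F p).arrow ≫ q p)
  (hqi : ∀ p, QuasiIso (q p)) (hj : QuasiIso j) (hJ : Good J) (hI : ∀ p, Good (I p))

include hF hπ ht hq hqi hj hJ hI in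
theorem formal :
    ∃ (G : ℤ → Subobject J) (hG : Antitone G),
      (∀ p, ∃ jp : (F p : CochainComplex A ℤ) ⟶ (G p : CochainComplex A ℤ),
        jp ≫ (G p).arrow = (F p).arrow ≫ j) ∧
      (∀ p, Good (G p : CochainComplex A ℤ)) ∧ (∀ p, Good (cokernel (G p).arrow)) ∧
      (∀ p p' (h : p ≤ p'), Good (cokernel ((G p').ofLE (G p) (hG h)))) ∧
      (∀ p (jp : (F p : CochainComplex A ℤ) ⟶ (G p : CochainComplex A ℤ)),
        jp ≫ (G p).arrow = (F p).arrow ≫ j → QuasiIso jp) ∧
      (∀ p (jq : cokernel (F p).arrow ⟶ cokernel (G p).arrow),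
        cokernel.π (F p).arrow ≫ jq = j ≫ cokernel.π (G p).arrow → QuasiIso jq) ∧
      (∀ p p' (h : p ≤ p') (jp : (F p : CochainComplex A ℤ) ⟶ (G p : CochainComplex A ℤ))
        (jp' : (F p' : CochainComplex A ℤ) ⟶ (G p' : CochainComplex A ℤ))
        (jg : cokernel ((F p').ofLE (F p) (hF h)) ⟶ cokernel ((G p').ofLE (G p) (hG h))),
        jp ≫ (G p).arrow = (F p).arrow ≫ j → jp' ≫ (G p').arrow = (F p').arrow ≫ j →
        cokernel.π ((F p').ofLE (F p) (hF h)) ≫ jg =
          jp ≫ cokernel.π ((G p').ofLE (G p) (hG h)) → QuasiIso jg) := by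
  haveI : ∀ p, Epi (π p) := fun p => epi_of_degreewise_section (π p) (hπ p)
  let G : ℤ → Subobject J := fun p => kernelSubobject (π p)
  have hG : Antitone G := by
    intro p p' h
    dsimp [G]
    have := kernelSubobject_comp_le (π p') (t p p' h)
    simpa only [ht p p' h] using this
  have hw : ∀ p, ((F p).arrow ≫ j) ≫ π p = 0 := fun p => by
    rw [Category.assoc, hq, cokernel.condition_assoc, zero_comp]
  have hGgood : ∀ p, Good (G p : CochainComplex A ℤ) := fun p =>
    Good.of_iso (kernelSubobjectIso (π p)).symm (good_kernel (π p) (hπ p) hJ (hI p))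
  have hQ : ∀ p (jq : cokernel (F p).arrow ⟶ cokernel (G p).arrow),
      cokernel.π (F p).arrow ≫ jq = j ≫ cokernel.π (G p).arrow → QuasiIso jq := by
    intro p jq hjq
    have hu := quasiIso_cokernel_desc (π p)
    have hc : jq ≫ cokernel.desc (kernelSubobject (π p)).arrow (π p)
        (kernelSubobject_arrow_comp (π p)) = q p := by
      rw [← cancel_epi (cokernel.π (F p).arrow), reassoc_of% hjq, cokernel.π_desc, hq]
    haveI := hqi p
    haveI : QuasiIso (jq ≫ cokernel.desc (kernelSubobject (π p)).arrow (π p)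
        (kernelSubobject_arrow_comp (π p))) := by rw [hc]; infer_instance
    exact quasiIso_of_comp_right jq (cokernel.desc (kernelSubobject (π p)).arrow (π p)
        (kernelSubobject_arrow_comp (π p)))
  have hP : ∀ p (jp : (F p : CochainComplex A ℤ) ⟶ (G p : CochainComplex A ℤ)),
      jp ≫ (G p).arrow = (F p).arrow ≫ j → QuasiIso jp := by
    intro p jp hjp
    exact quasiIso_sub (F p).arrow (G p).arrow jp j
      (cokernel.map (F p).arrow (G p).arrow jp j hjp.symm) hjp (cokernel.π_desc _ _ _) hj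
      (hQ p _ (cokernel.π_desc _ _ _))
  refine ⟨G, hG, fun p => ⟨factorThruKernelSubobject (π p) ((F p).arrow ≫ j) (hw p),
    factorThruKernelSubobject_comp_arrow _ _ _⟩, hGgood, fun p => ?_, fun p p' h => ?_, hP, hQ, ?_⟩
  · exact Good.X₃ _ (shortExact_cokernelSequence (G p).arrow) (hGgood p) hJ
  · exact Good.X₃ _ (shortExact_cokernelSequence ((G p').ofLE (G p) (hG h))) (hGgood p') (hGgood p)
  · intro p p' h jp jp' jg hjp hjp' hjg
    refine quasiIso_quot ((F p').ofLE (F p) (hF h)) ((G p').ofLE (G p) (hG h)) jp' jp jg ?_ hjg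
      (hP p' jp' hjp') (hP p jp hjp)
    rw [← cancel_mono (G p).arrow, Category.assoc, Category.assoc, Subobject.ofLE_arrow, hjp',
      hjp, Subobject.ofLE_arrow_assoc]

end

end Groth.Agent.Lib.Helper2.FilInj
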