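import Mathlib
import Groth.Agent.Lib.Helper2.FilInj.Basic

/-!
# Evaluation functors on presheaf categories over a thin category

For a thin category `C` and an abelian category `A` with coproducts, the evaluation functor
`(Cᵒᵖ ⥤ A) ⥤ A` at `op X` has the exact left adjoint `M ↦ freeYoneda X M`.  Consequently it
preserves injectives and K-injective complexes, and the transition maps of an injective presheaf
are split epimorphisms.
-/

namespace Groth.Agent.Lib.Helper2.FilInj

open CategoryTheory Limits Opposite Presheaf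

universe w' w v u

variable {C : Type w} [Category.{w'} C] [Quiver.IsThin C]
  {A : Type u} [Category.{v} A] [Abelian A] [HasCoproducts.{w'} A]

section Sigma

variable {S : Type w'} [Subsingleton S]

lemma isIso_sigma_ι (M : A) (s : S) : IsIso (Sigma.ι (fun _ : S => M) s) := by
  refine ⟨Sigma.desc (fun _ => 𝟙 M), by simp, ?_⟩
  apply Sigma.hom_ext
  intro t
  obtain rfl := Subsingleton.elim s t
  simp

lemma isZero_sigma_of_isEmpty (M : A) (h : IsEmpty S) : IsZero (∐ (fun _ : S => M)) := by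
  rw [IsZero.iff_id_eq_zero]
  apply Sigma.hom_ext
  intro t
  exact (h.false t).elim

lemma mono_sigma_map {M N : A} (m : M ⟶ N) [Mono m] :
    Mono (Limits.Sigma.map (fun _ : S => m)) := by
  by_cases h : Nonempty S
  · obtain ⟨s⟩ := h
    haveI := isIso_sigma_ι (S := S) M s
    haveI := isIso_sigma_ι (S := S) N s
    have : Limits.Sigma.map (fun _ : S => m) =
        inv (Sigma.ι (fun _ : S => M) s) ≫ m ≫ Sigma.ι (fun _ : S => N) s := by
      rw [← cancel_epi (Sigma.ι (fun _ : S => M) s), IsIso.hom_inv_id_assoc]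
      simp
    rw [this]
    infer_instance
  · rw [not_nonempty_iff] at h
    exact ⟨fun a b _ => (isZero_sigma_of_isEmpty M h).eq_of_tgt a b⟩

lemma mono_sigma_desc_ι {T : Type w'} [Subsingleton T] (M : A) (g : S → T) :
    Mono (Sigma.desc (fun i : S => Sigma.ι (fun _ : T => M) (g i))) := by
  by_cases h : Nonempty S
  · obtain ⟨s⟩ := h
    haveI := isIso_sigma_ι (S := S) M s
    haveI := isIso_sigma_ι (S := T) M (g s)
    have : Sigma.desc (fun i : S => Sigma.ι (fun _ : T => M) (g i)) =
        inv (Sigma.ι (fun _ : S => M) s) ≫ Sigma.ι (fun _ : T => M) (g s) := by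
      rw [← cancel_epi (Sigma.ι (fun _ : S => M) s), IsIso.hom_inv_id_assoc]
      simp
    rw [this]
    infer_instance
  · rw [not_nonempty_iff] at h
    exact ⟨fun a b _ => (isZero_sigma_of_isEmpty M h).eq_of_tgt a b⟩

end Sigma

/-- `M ↦ freeYoneda X M` as a functor. -/
noncomputable def freeYonedaFunctor (X : C) : A ⥤ (Cᵒᵖ ⥤ A) where
  obj M := freeYoneda X M
  map {M N} m :=
    { app := fun Y => Limits.Sigma.map (fun _ => m)
      naturality := fun Y Z f => by
        apply Sigma.hom_ext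
        intro i
        simp [freeYoneda] }
  map_id M := by
    ext Y
    exact Limits.Sigma.map_id
  map_comp f g := by
    ext Y
    exact (Limits.Sigma.map_comp_map (fun _ => f) (fun _ => g)).symm

/-- The adjunction `freeYoneda X - ⊣ ev_X`. -/
noncomputable def freeYonedaAdj (X : C) :
    freeYonedaFunctor (A := A) X ⊣ (evaluation Cᵒᵖ A).obj (op X) :=
  Adjunction.mkOfHomEquiv
    { homEquiv := fun M F => (freeYonedaHomEquiv : (freeYoneda X M ⟶ F) ≃ (M ⟶ F.obj (op X)))
      homEquiv_naturality_left_symm := fun {M N F} m g => by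
        apply (freeYonedaHomEquiv : (freeYoneda X M ⟶ F) ≃ (M ⟶ F.obj (op X))).injective
        erw [Equiv.apply_symm_apply]
        have h0 := freeYonedaHomEquiv_comp ((freeYonedaFunctor X).map m)
          ((freeYonedaHomEquiv : (freeYoneda X N ⟶ F) ≃ (N ⟶ F.obj (op X))).symm g)
        have h1 : (freeYonedaHomEquiv : (freeYoneda X M ⟶ freeYoneda X N) ≃ _)
            ((freeYonedaFunctor X).map m) = m ≫ Sigma.ι (fun _ : (X ⟶ X) => N) (𝟙 X) := by
          dsimp [freeYonedaHomEquiv, freeYonedaFunctor]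
          exact Sigma.ι_map _ _
        have h2 : Sigma.ι (fun _ : (X ⟶ X) => N) (𝟙 X) ≫
            ((freeYonedaHomEquiv : (freeYoneda X N ⟶ F) ≃ (N ⟶ F.obj (op X))).symm g).app (op X) = g :=
          (freeYonedaHomEquiv : (freeYoneda X N ⟶ F) ≃ (N ⟶ F.obj (op X))).apply_symm_apply g
        refine (h0.trans ?_).symm
        refine (congrArg (fun t => t ≫ ((freeYonedaHomEquiv :
          (freeYoneda X N ⟶ F) ≃ (N ⟶ F.obj (op X))).symm g).app (op X)) h1).trans ?_
        refine (Category.assoc _ _ _).trans ?_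
        exact congrArg (fun t => m ≫ t) h2
      homEquiv_naturality_right := fun {M F G} α f => freeYonedaHomEquiv_comp α f }

instance (X : C) : (freeYonedaFunctor (A := A) X).IsLeftAdjoint := (freeYonedaAdj X).isLeftAdjoint

instance (X : C) : (freeYonedaFunctor (A := A) X).Additive :=
  (freeYonedaAdj X).left_adjoint_additive

instance (X : C) : (freeYonedaFunctor (A := A) X).PreservesMonomorphisms where
  preserves {M N} m _ := by
    rw [NatTrans.mono_iff_mono_app]
    intro Y
    exact mono_sigma_map m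

instance (X : C) : PreservesFiniteLimits (freeYonedaFunctor (A := A) X) := by
  rw [Functor.preservesFiniteLimits_iff_forall_exact_map_and_mono]
  intro S hS
  haveI := hS.mono_f
  exact ⟨((Functor.preservesFiniteColimits_iff_forall_exact_map_and_epi
    (freeYonedaFunctor (A := A) X)).1 inferInstance S hS).1, inferInstance⟩

instance (X : C) : PreservesFiniteColimits (freeYonedaFunctor (A := A) X) := inferInstance

/-- Evaluation of an injective presheaf is injective. -/
lemma injective_eval (F : Cᵒᵖ ⥤ A) [Injective F] (X : C) : Injective (F.obj (op X)) :=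
  Injective.injective_of_adjoint (freeYonedaAdj X) F

/-- Evaluation preserves K-injective complexes. -/
lemma isKInjective_eval (L : CochainComplex (Cᵒᵖ ⥤ A) ℤ) [L.IsKInjective] (X : C) :
    CochainComplex.IsKInjective
      ((((evaluation Cᵒᵖ A).obj (op X)).mapHomologicalComplex (ComplexShape.up ℤ)).obj L) :=
  isKInjective_map_of_adjunction (freeYonedaAdj X) L

/-- The transition maps of an injective presheaf on a thin category are split epimorphisms. -/
lemma exists_section_of_injective (F : Cᵒᵖ ⥤ A) [Injective F] {x y : C} (f : y ⟶ x) :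
    ∃ s : F.obj (op y) ⟶ F.obj (op x), s ≫ F.map f.op = 𝟙 _ := by
  let M := F.obj (op y)
  let ε : freeYoneda y M ⟶ F := freeYonedaHomEquiv.symm (𝟙 M)
  let φ : freeYoneda y M ⟶ freeYoneda x M :=
    { app := fun z => Sigma.desc
        (fun i : (z.unop ⟶ y) => Sigma.ι (fun _ : (z.unop ⟶ x) => M) (i ≫ f))
      naturality := fun z z' g => by
        apply Sigma.hom_ext
        intro i
        simp [freeYoneda] }
  haveI : Mono φ := by
    rw [NatTrans.mono_iff_mono_app]
    intro z
    exact mono_sigma_desc_ι M _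
  let ψ := Injective.factorThru ε φ
  have hψ : φ ≫ ψ = ε := Injective.comp_factorThru ε φ
  refine ⟨Sigma.ι (fun _ : (x ⟶ x) => M) (𝟙 x) ≫ ψ.app (op x), ?_⟩
  have h1 : Sigma.ι (fun _ : (x ⟶ x) => M) (𝟙 x) ≫ (freeYoneda x M).map f.op =
      Sigma.ι (fun _ : (y ⟶ x) => M) f := by
    simp [freeYoneda]
  have h2 : Sigma.ι (fun _ : (y ⟶ y) => M) (𝟙 y) ≫ φ.app (op y) =
      Sigma.ι (fun _ : (y ⟶ x) => M) f := by
    simp [φ]
  have h3 : Sigma.ι (fun _ : (y ⟶ y) => M) (𝟙 y) ≫ ε.app (op y) = 𝟙 M :=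
    (freeYonedaHomEquiv : (freeYoneda y M ⟶ F) ≃ (M ⟶ F.obj (op y))).apply_symm_apply (𝟙 M)
  have h4 := ψ.naturality f.op
  have h5 : φ.app (op y) ≫ ψ.app (op y) = ε.app (op y) := by
    rw [← NatTrans.comp_app, hψ]
  have e1 : (Sigma.ι (fun _ : (x ⟶ x) => M) (𝟙 x) ≫ ψ.app (op x)) ≫ F.map f.op
      = Sigma.ι (fun _ : (x ⟶ x) => M) (𝟙 x) ≫ (freeYoneda x M).map f.op ≫ ψ.app (op y) :=
    (Category.assoc _ _ _).trans
      (congrArg (fun t => Sigma.ι (fun _ : (x ⟶ x) => M) (𝟙 x) ≫ t) h4.symm)
  have e2 : Sigma.ι (fun _ : (x ⟶ x) => M) (𝟙 x) ≫ (freeYoneda x M).map f.op ≫ ψ.app (op y) =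
      Sigma.ι (fun _ : (y ⟶ x) => M) f ≫ ψ.app (op y) :=
    (Category.assoc _ _ _).symm.trans (congrArg (fun t => t ≫ ψ.app (op y)) h1)
  have e3 : Sigma.ι (fun _ : (y ⟶ x) => M) f ≫ ψ.app (op y) =
      Sigma.ι (fun _ : (y ⟶ y) => M) (𝟙 y) ≫ φ.app (op y) ≫ ψ.app (op y) :=
    (congrArg (fun t => t ≫ ψ.app (op y)) h2.symm).trans (Category.assoc _ _ _)
  have e4 : Sigma.ι (fun _ : (y ⟶ y) => M) (𝟙 y) ≫ φ.app (op y) ≫ ψ.app (op y) = 𝟙 M :=
    (congrArg (fun t => Sigma.ι (fun _ : (y ⟶ y) => M) (𝟙 y) ≫ t) h5).trans h3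
  exact e1.trans (e2.trans (e3.trans e4))

end Groth.Agent.Lib.Helper2.FilInj
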