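import Mathlib
import Groth.Agent.Lib.Helper2.FilInj.FreeYoneda
import Groth.Agent.Lib.Helper2.FilInj.Formal
import Groth.Agent.Lib.Helper2.KInj.Main

/-!
# Filtered K-injective embeddings

For a filtered complex `(K, F)` in a Grothendieck abelian category, we construct a filtered
complex `(J, G)` and a filtered quasi-isomorphism `K ⟶ J` such that `J`, `G p`, `J / G p` and
`G p / G p'` are K-injective with injective terms.  The construction takes a K-injective resolution
of the diagram `x ↦ K / F x` (`x : WithTop ℤ`, `F ⊤ = 0`) in the category of presheaves on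
`WithTop ℤ`.
-/

namespace Groth.Agent.Lib.Helper2.FilInj

open CategoryTheory Limits Opposite HomologicalComplex

universe v u

/-- The index category. -/
abbrev Idx := WithTop ℤ

section Quot

variable {C : Type*} [Category C] [Abelian C] {K : C}

/-- Extend a filtration to `WithTop ℤ` by `F ⊤ = ⊥`. -/
noncomputable def extFil (F : ℤ → Subobject K) : Idx → Subobject K
  | ⊤ => ⊥
  | (p : ℤ) => F p

lemma extFil_anti (F : ℤ → Subobject K) (hF : Antitone F) : Antitone (extFil F) := by
  intro x y h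
  cases y using WithTop.recTopCoe with
  | top => exact bot_le
  | coe q =>
    cases x using WithTop.recTopCoe with
    | top => exact absurd h (by simp)
    | coe p => exact hF (WithTop.coe_le_coe.1 h)

/-- The diagram `x ↦ K / F x`. -/
noncomputable def quotFunctor (F : ℤ → Subobject K) (hF : Antitone F) : Idxᵒᵖ ⥤ C where
  obj x := cokernel (extFil F x.unop).arrow
  map {x y} f := cokernel.map _ _
    ((extFil F x.unop).ofLE (extFil F y.unop) (extFil_anti F hF (leOfHom f.unop))) (𝟙 K) (by simp)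
  map_id x := by
    apply coequalizer.hom_ext
    simp
  map_comp f g := by
    apply coequalizer.hom_ext
    simp

end Quot

section

variable {A : Type u} [Category.{v} A] [Abelian A]

/-- A functor to complexes as a complex of functors. -/
noncomputable def toComplexOfFunctors {T : Type*} [Category T] (D : T ⥤ CochainComplex A ℤ) :
    CochainComplex (T ⥤ A) ℤ where
  X n := D ⋙ HomologicalComplex.eval A _ n
  d i j :=
    { app := fun t => (D.obj t).d i j
      naturality := fun _ _ f => (D.map f).comm i j }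
  shape i j h := by
    ext t
    exact (D.obj t).shape i j h
  d_comp_d' i j k _ _ := by
    ext t
    exact (D.obj t).d_comp_d i j k

end

section Construction

variable {A : Type u} [Category.{v} A] [Abelian A] [IsGrothendieckAbelian.{v} A]

theorem hasCoproductsZero : HasCoproducts.{0} A := hasCoproducts_shrink.{0, v}

attribute [local instance] hasCoproductsZero

theorem isGrothendieckAbelianPresheaf : IsGrothendieckAbelian.{v} (Idxᵒᵖ ⥤ A) where
  locallySmall := inferInstance
  hasFilteredColimitsOfSize := ⟨fun J _ _ => inferInstance⟩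
  ab5OfSize := ⟨fun J _ _ => inferInstance⟩
  hasSeparator := inferInstance

attribute [local instance] isGrothendieckAbelianPresheaf

theorem exists_data (K : CochainComplex A ℤ) (F : ℤ → Subobject K) (hF : Antitone F) :
    ∃ (J : CochainComplex A ℤ) (j : K ⟶ J) (I : ℤ → CochainComplex A ℤ) (π : ∀ p, J ⟶ I p)
      (t : ∀ p p', p ≤ p' → (I p' ⟶ I p)) (q : ∀ p, cokernel (F p).arrow ⟶ I p),
      (∀ p n, ∃ s : (I p).X n ⟶ J.X n, s ≫ (π p).f n = 𝟙 _) ∧
      (∀ p p' (h : p ≤ p'), π p' ≫ t p p' h = π p) ∧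
      (∀ p, j ≫ π p = cokernel.π (F p).arrow ≫ q p) ∧
      (∀ p, QuasiIso (q p)) ∧ QuasiIso j ∧ Good J ∧ ∀ p, Good (I p) := by
  let D : Idxᵒᵖ ⥤ CochainComplex A ℤ := quotFunctor F hF
  let M : CochainComplex (Idxᵒᵖ ⥤ A) ℤ := toComplexOfFunctors D
  obtain ⟨𝕀, ι, hK, hι, _, hinj⟩ := KInj.exists_kInjective_resolution M
  let Φ : Idxᵒᵖ ⥤ CochainComplex A ℤ := 𝕀.asFunctor
  let θ : D ⟶ Φ :=
    { app := fun x =>
        { f := fun i => (ι.f i).app x
          comm' := fun i j _ => NatTrans.congr_app (ι.comm i j) x }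
      naturality := fun x y g => by
        ext i
        exact (ι.f i).naturality g }
  have hθ : ∀ x, QuasiIso (θ.app x) := fun x =>
    (HomologicalComplex.quasiIso_iff_evaluation ι).1 hι x
  have hgood : ∀ x : Idx, Good (Φ.obj (op x)) := fun x =>
    ⟨isKInjective_eval 𝕀 x, fun n => injective_eval (𝕀.X n) x⟩
  let cT : K ⟶ D.obj (op ⊤) := cokernel.π (⊥ : Subobject K).arrow
  let cp : ∀ p : ℤ, K ⟶ D.obj (op (p : Idx)) := fun p => cokernel.π (F p).arrow
  refine ⟨Φ.obj (op ⊤), cT ≫ θ.app (op ⊤),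
    fun p => Φ.obj (op (p : Idx)), fun p => Φ.map (homOfLE (le_top : (p : Idx) ≤ ⊤)).op,
    fun p p' h => Φ.map (homOfLE (WithTop.coe_le_coe.2 h : (p : Idx) ≤ (p' : Idx))).op,
    fun p => θ.app (op (p : Idx)), ?_, ?_, ?_, fun p => hθ _, ?_, hgood ⊤, fun p => hgood p⟩
  · intro p n
    exact exists_section_of_injective (𝕀.X n) (homOfLE (le_top : (p : Idx) ≤ ⊤))
  · intro p p' h
    rw [← Φ.map_comp]
    exact congrArg Φ.map (Subsingleton.elim _ _)
  · intro p
    have h1 : cT ≫ D.map (homOfLE (le_top : (p : Idx) ≤ ⊤)).op = cp p := by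
      refine (cokernel.π_desc _ _ _).trans ?_
      exact Category.id_comp _
    have h2 := θ.naturality (homOfLE (le_top : (p : Idx) ≤ ⊤)).op
    calc (cT ≫ θ.app (op ⊤)) ≫ Φ.map (homOfLE (le_top : (p : Idx) ≤ ⊤)).op
        = cT ≫ D.map (homOfLE (le_top : (p : Idx) ≤ ⊤)).op ≫ θ.app (op (p : Idx)) := by
          rw [Category.assoc, h2]
      _ = cp p ≫ θ.app (op (p : Idx)) := by rw [← Category.assoc, h1]
  · haveI : IsIso cT := cokernel.π_of_zero Subobject.bot_arrow
    haveI := hθ (op ⊤)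
    infer_instance

/-- **Filtered K-injective embedding**. -/
theorem exists_filtered_embedding (K : CochainComplex A ℤ) (F : ℤ → Subobject K)
    (hF : Antitone F) :
    ∃ (J : CochainComplex A ℤ) (G : ℤ → Subobject J) (hG : Antitone G) (j : K ⟶ J),
      (∀ p, F p ≤ (Subobject.pullback j).obj (G p)) ∧
      Good J ∧ (∀ p, Good (G p : CochainComplex A ℤ)) ∧ (∀ p, Good (cokernel (G p).arrow)) ∧
      (∀ p p' (h : p ≤ p'), Good (cokernel ((G p').ofLE (G p) (hG h)))) ∧
      QuasiIso j ∧
      (∀ p : ℤ, ∃ jp : (F p : CochainComplex A ℤ) ⟶ (G p : CochainComplex A ℤ),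
        jp ≫ (G p).arrow = (F p).arrow ≫ j ∧ QuasiIso jp ∧
        (∀ (p' : ℤ) (h : p ≤ p'),
          ∃ (jp' : (F p' : CochainComplex A ℤ) ⟶ (G p' : CochainComplex A ℤ))
            (jg : cokernel ((F p').ofLE (F p) (hF h)) ⟶ cokernel ((G p').ofLE (G p) (hG h))),
          jp' ≫ (G p').arrow = (F p').arrow ≫ j ∧
          jp' ≫ (G p').ofLE (G p) (hG h) = (F p').ofLE (F p) (hF h) ≫ jp ∧
          cokernel.π ((F p').ofLE (F p) (hF h)) ≫ jg =
            jp ≫ cokernel.π ((G p').ofLE (G p) (hG h)) ∧ QuasiIso jg)) ∧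
      (∀ p : ℤ, ∃ jq : cokernel (F p).arrow ⟶ cokernel (G p).arrow,
        cokernel.π (F p).arrow ≫ jq = j ≫ cokernel.π (G p).arrow ∧ QuasiIso jq) := by
  obtain ⟨J, j, I, π, t, q, hπ, ht, hq, hqi, hj, hJ, hI⟩ := exists_data K F hF
  obtain ⟨G, hG, hex, hGgood, hQgood, hGrgood, hP, hQ, hGr⟩ :=
    formal F hF j I π hπ t ht q hq hqi hj hJ hI
  refine ⟨J, G, hG, j, fun p => ?_, hJ, hGgood, hQgood, hGrgood, hj, fun p => ?_, fun p => ?_⟩
  · obtain ⟨jp, hjp⟩ := hex p
    exact le_pullback_of_fac j (F p) (G p) jp hjp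
  · obtain ⟨jp, hjp⟩ := hex p
    refine ⟨jp, hjp, hP p jp hjp, fun p' h => ?_⟩
    obtain ⟨jp', hjp'⟩ := hex p'
    have hc : jp' ≫ (G p').ofLE (G p) (hG h) = (F p').ofLE (F p) (hF h) ≫ jp := by
      rw [← cancel_mono (G p).arrow, Category.assoc, Category.assoc, Subobject.ofLE_arrow, hjp',
        hjp, Subobject.ofLE_arrow_assoc]
    exact ⟨jp', cokernel.map _ _ jp' jp hc.symm, hjp', hc, cokernel.π_desc _ _ _,
      hGr p p' h jp jp' _ hjp hjp' (cokernel.π_desc _ _ _)⟩
  · obtain ⟨jp, hjp⟩ := hex p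
    exact ⟨cokernel.map _ _ jp j hjp.symm, cokernel.π_desc _ _ _,
      hQ p _ (cokernel.π_desc _ _ _)⟩

end Construction

end Groth.Agent.Lib.Helper2.FilInj
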